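import Cfsg.Agent.Lib.Fischer.M22Pair.FixLocal
import Cfsg.Agent.Lib.Fischer.TypeTwentyTwoClasses
import Cfsg.Agent.Lib.Fischer.M22Unique.Iso
import Cfsg.Agent.S2079

/-!
Groups of type M(22): automorphisms preserve the class; an outer one fixes a given commuting pair.
-/

set_option autoImplicit false
set_option linter.unusedSectionVars false

namespace CfsgLib.Fischer.M22Pair

open CfsgLib.Fischer CfsgLib.InvChar.FischerProducts CfsgLib.InvChar.FischerHexad
open CfsgLib.Fischer.TypeTwentyTwo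

variable {G : Type*} [Group G] [Finite G] {D : Set G}
variable (hD : Cfsg.IsThreeTranspositionGroup D) (hprim : Cfsg.IsPrimitiveUnderConj D)
  (ht : Cfsg.IsOfTypeM22 G D)

include hD hprim ht

/-- Automorphisms preserve the class. -/
theorem aut_mem_iff (φ : G ≃* G) (x : G) : φ x ∈ D ↔ x ∈ D := by
  obtain ⟨hS1, hS2⟩ := hD.1
  obtain ⟨d, hd, -⟩ := id hprim.2.1
  have hconjD : D = conjugatesOf d := by
    ext y
    constructor
    · intro hy
      obtain ⟨g, hg⟩ := hprim.1 d hd y hy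
      exact isConj_iff.2 ⟨g, hg⟩
    · intro hy
      obtain ⟨g, rfl⟩ := isConj_iff.1 hy
      exact hD.2.1 g d hd
  have hcl : Cfsg.IsThreeTranspositionClass (φ '' D) := by
    refine ⟨⟨?_, ?_⟩, ⟨φ d, Set.mem_image_of_mem _ hd, ?_⟩, ?_⟩
    · rintro _ ⟨y, hy, rfl⟩
      exact (MulEquiv.orderOf_eq φ y).trans (hS1 y hy)
    · rintro _ ⟨y, hy, rfl⟩ _ ⟨z, hz, rfl⟩
      rw [← map_mul, ← map_pow, ← map_pow, map_eq_one_iff _ φ.injective, map_eq_one_iff _ φ.injective]
      exact hS2 y hy z hz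
    · ext y
      constructor
      · rintro ⟨z, hz, rfl⟩
        rw [hconjD] at hz
        obtain ⟨g, rfl⟩ := isConj_iff.1 hz
        exact isConj_iff.2 ⟨φ g, by simp⟩
      · intro hy
        obtain ⟨g, rfl⟩ := isConj_iff.1 hy
        exact ⟨φ.symm g * d * (φ.symm g)⁻¹, hD.2.1 _ d hd, by simp⟩
    · have h1 : (Subgroup.closure D).map φ.toMonoidHom = ⊤ := by
        rw [hD.2.2]
        exact Subgroup.map_top_of_surjective _ φ.surjective
      rwa [MonoidHom.map_closure] at h1
  have h : φ '' D = D :=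
    eq_of_class hD hprim ht (fun e he => centralizer_eq_closure hD hprim ht he) hcl
  conv_lhs => rw [← h]
  exact φ.injective.mem_set_image

/-- The inner automorphisms have index two. -/
theorem index_inn : (Cfsg.Inn G).index = 2 := by
  obtain ⟨e, -⟩ := M22Unique.exists_equiv hD hprim ht
  have h2 : (Cfsg.Inn Cfsg.Spor.Fi22).index = 2 := Cfsg.Agent.S2079.result
  have hmap : (Cfsg.Inn G).map (MulAut.congr e).toMonoidHom = Cfsg.Inn Cfsg.Spor.Fi22 := by
    ext ψ
    constructor
    · rintro ⟨_, ⟨g, rfl⟩, rfl⟩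
      exact ⟨e g, MulEquiv.ext fun x => by simp [MulAut.congr, MulAut.conj_apply]⟩
    · rintro ⟨x, rfl⟩
      exact ⟨MulAut.conj (e.symm x), ⟨_, rfl⟩, MulEquiv.ext fun y => by simp [MulAut.congr, MulAut.conj_apply]⟩
  rw [← h2, ← hmap, Subgroup.index_map_of_bijective (MulAut.congr e).bijective]

theorem natCard_mulAut : Nat.card (MulAut G) = 2 * Nat.card G := by
  haveI := isSimple hD hprim ht
  have hinj : Function.Injective (MulAut.conj : G →* MulAut G) := by
    refine (injective_iff_map_eq_one _).2 fun g hg => ?_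
    have : g ∈ Subgroup.center G := Subgroup.mem_center_iff.2 fun x => by
      have h1 : MulAut.conj g x = x := by rw [hg]; rfl
      rw [MulAut.conj_apply, mul_inv_eq_iff_eq_mul] at h1
      exact h1.symm
    rw [ht.1, Subgroup.mem_bot] at this
    exact this
  have h := (Cfsg.Inn G).card_mul_index
  rw [index_inn hD hprim ht] at h
  rw [← h, mul_comm]
  exact congrArg (2 * ·) (Nat.card_congr (MonoidHom.ofInjective hinj).toEquiv).symm

/-- An outer automorphism fixing a given commuting pair. -/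
theorem exists_outer_fixing {a b : G} (ha : a ∈ D) (hb : b ∈ perp D a) :
    ∃ τ : MulAut G, τ a = a ∧ τ b = b ∧ τ ∉ Cfsg.Inn G := by
  obtain ⟨σ, hσ⟩ : ∃ σ : MulAut G, σ ∉ Cfsg.Inn G := by
    by_contra h
    push Not at h
    have h1 := index_inn hD hprim ht
    rw [(Subgroup.eq_top_iff' _).2 h, Subgroup.index_top] at h1
    omega
  have hσa : σ a ∈ D := (aut_mem_iff hD hprim ht σ a).2 ha
  have hσb : σ b ∈ perp D (σ a) :=
    ⟨(aut_mem_iff hD hprim ht σ b).2 hb.1, fun h => hb.2.1 (σ.injective h), hb.2.2.map σ⟩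
  obtain ⟨c, hc⟩ := exists_third hD hprim ht ha hb
  obtain ⟨c', hc'⟩ := exists_third hD hprim ht hσa hσb
  obtain ⟨g, h1, h2, -⟩ := exists_triple_move hD hprim ht hσa hσb hc' ha hb hc
  refine ⟨MulAut.conj g * σ, ?_, ?_, fun h => hσ ?_⟩
  · rw [MulAut.mul_apply, MulAut.conj_apply, h1]
  · rw [MulAut.mul_apply, MulAut.conj_apply, h2]
  · have h3 := mul_mem (inv_mem (show MulAut.conj g ∈ Cfsg.Inn G from ⟨g, rfl⟩)) h
    rwa [inv_mul_cancel_left] at h3

/-- An outer automorphism fixes no commuting pair together with all common neighbours. -/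
theorem not_fix_common {a b : G} (ha : a ∈ D) (hb : b ∈ perp D a) {φ : MulAut G} (hφ : φ ∉ Cfsg.Inn G)
    (hφa : φ a = a) (hφb : φ b = b) : ¬ ∀ k ∈ pairCent a b, φ k = k := fun hK => by
  obtain ⟨g, hg⟩ := inner_of_fix_common hD hprim ht ha hb (aut_mem_iff hD hprim ht φ) hφa hφb
    fun f hf => hK f (mem_pairCent.2 ⟨hf.1.2.2.symm, hf.2.2.2.symm⟩)
  exact hφ ⟨g, hg.symm⟩

end CfsgLib.Fischer.M22Pair
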