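import Cfsg.Agent.Lib.Fischer.M22Pair.Complete
import Cfsg.Agent.Lib.Fischer.M22Pair.Outer
import Cfsg.Agent.Lib.Fischer.M22Pair.Deviation

/-!
Groups of type M(22): the centralizer, in the automorphism group, of a product of two commuting members.
-/

set_option autoImplicit false
set_option linter.unusedSectionVars false
set_option maxHeartbeats 1000000

namespace CfsgLib.Fischer.M22Pair

open CfsgLib.Fischer CfsgLib.InvChar.FischerProducts CfsgLib.InvChar.FischerHexad
open CfsgLib.InvChar.UnitaryTVTwo CfsgLib.Fischer.UnitaryPoint CfsgLib.Fischer.TypeTwentyTwo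

theorem conj_bijective_of_equiv {A B : Type*} [Group A] [Group B] (e : A ≃* B)
    (h : Function.Bijective (MulAut.conj : B →* MulAut B)) : Function.Bijective (MulAut.conj : A →* MulAut A) := by
  have key : ∀ x : A, MulAut.conj x = (MulAut.congr e).symm (MulAut.conj (e x)) := fun x =>
    MulEquiv.ext fun y => by simp [MulAut.congr, MulAut.conj_apply]
  refine ⟨fun x y hxy => ?_, fun ψ => ?_⟩
  · rw [key, key] at hxy
    exact e.injective (h.1 ((MulAut.congr e).symm.injective hxy))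
  · obtain ⟨w, hw⟩ := h.2 (MulAut.congr e ψ)
    exact ⟨e.symm w, by rw [key, e.apply_symm_apply, hw, MulEquiv.symm_apply_apply]⟩

variable {G : Type*} [Group G] [Finite G] {D : Set G} {a b : G}
variable (hD : Cfsg.IsThreeTranspositionGroup D) (hprim : Cfsg.IsPrimitiveUnderConj D)
  (ht : Cfsg.IsOfTypeM22 G D)

theorem autConj_conj (φ : MulAut G) (g : G) : φ * MulAut.conj g * φ⁻¹ = MulAut.conj (φ g) :=
  MulEquiv.ext fun x => by simp [MulAut.conj_apply]

include hD hprim ht

theorem autConj_injective {g h : G} (e : MulAut.conj g = MulAut.conj h) : g = h := by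
  refine eq_of_mul_inv_eq_one (center_trivial hD hprim ht ?_)
  rw [map_mul, map_inv, e, mul_inv_cancel]

/-- The centralizer of `j` fixes the product. -/
theorem mem_centralizer_iff_fix {φ : MulAut G} :
    φ ∈ Subgroup.centralizer ({MulAut.conj (a * b)} : Set (MulAut G)) ↔ φ (a * b) = a * b := by
  rw [Subgroup.mem_centralizer_singleton_iff]
  constructor
  · intro h
    refine autConj_injective hD hprim ht ?_
    rw [← autConj_conj, h, mul_inv_cancel_right]
  · intro h
    have := autConj_conj φ (a * b)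
    rw [h, mul_inv_eq_iff_eq_mul] at this
    exact this

theorem move_of_fix (ha : a ∈ D) (hb : b ∈ perp D a) {φ : MulAut G} (h : φ (a * b) = a * b) :
    (φ a = a ∧ φ b = b) ∨ (φ a = b ∧ φ b = a) :=
  pair_unique hD hprim ht ha hb ((aut_mem_iff hD hprim ht φ a).2 ha)
    ⟨(aut_mem_iff hD hprim ht φ b).2 hb.1, fun e => hb.2.1 (φ.injective e), hb.2.2.map φ⟩
    (by rw [← map_mul, h])

theorem map_centralizer_pair {φ : MulAut G} (h : φ (a * b) = a * b) {x : G}
    (hx : x ∈ Subgroup.centralizer ({a * b} : Set G)) : φ x ∈ Subgroup.centralizer ({a * b} : Set G) := by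
  rw [Subgroup.mem_centralizer_singleton_iff] at hx ⊢
  rw [← h, ← map_mul, hx, map_mul]

theorem map_pairTwo (ha : a ∈ D) (hb : b ∈ perp D a) {φ : MulAut G} (h : φ (a * b) = a * b) {x : G}
    (hx : x ∈ pairTwo a b) : φ x ∈ pairTwo a b := by
  have hK : ∀ ψ : MulAut G, ψ (a * b) = a * b → ∀ k ∈ pairCent a b, ψ k ∈ pairCent a b := by
    intro ψ hψ k hk
    obtain ⟨h1, h2⟩ := mem_pairCent.1 hk
    have e1 := h1.map ψ
    have e2 := h2.map ψ
    rcases move_of_fix hD hprim ht ha hb hψ with ⟨ha', hb'⟩ | ⟨ha', hb'⟩ <;> rw [ha'] at e1 <;> rw [hb'] at e2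
    exacts [mem_pairCent.2 ⟨e1, e2⟩, mem_pairCent.2 ⟨e2, e1⟩]
  have h' : φ.symm (a * b) = a * b := by rw [MulEquiv.symm_apply_eq, h]
  let β : pairCent a b ≃* pairCent a b :=
    { toFun := fun k => ⟨φ k, hK φ h k k.2⟩
      invFun := fun k => ⟨φ.symm k, hK φ.symm h' k k.2⟩
      left_inv := fun k => Subtype.ext (φ.symm_apply_apply _)
      right_inv := fun k => Subtype.ext (φ.apply_symm_apply _)
      map_mul' := fun k l => Subtype.ext (map_mul φ _ _) }
  obtain ⟨k, hk, rfl⟩ := hx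
  refine ⟨β k, ?_, rfl⟩
  have := Subgroup.mem_map_of_mem β.toMonoidHom hk
  rwa [CfsgLib.Cores.map_pCore_equiv β] at this

/-- The action on the centralizer of `a * b` modulo `E`. -/
theorem exists_theta_hom (ha : a ∈ D) (hb : b ∈ perp D a)
    [((pairTwo a b).subgroupOf (Subgroup.centralizer ({a * b} : Set G))).Normal] :
    ∃ Θ : Subgroup.centralizer ({MulAut.conj (a * b)} : Set (MulAut G)) →*
        MulAut (↥(Subgroup.centralizer ({a * b} : Set G)) ⧸ (pairTwo a b).subgroupOf (Subgroup.centralizer ({a * b} : Set G))),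
      ∀ φ (c : Subgroup.centralizer ({a * b} : Set G))
        (h : φ.1 (c : G) ∈ Subgroup.centralizer ({a * b} : Set G)),
        Θ φ (QuotientGroup.mk c) = QuotientGroup.mk ⟨φ.1 (c : G), h⟩ := by
  set C := Subgroup.centralizer ({a * b} : Set G)
  set X := Subgroup.centralizer ({MulAut.conj (a * b)} : Set (MulAut G))
  set E' := (pairTwo a b).subgroupOf C with hE'
  have hfix : ∀ φ : X, φ.1 (a * b) = a * b := fun φ => (mem_centralizer_iff_fix hD hprim ht).1 φ.2
  have hfix' : ∀ φ : X, φ.1.symm (a * b) = a * b := fun φ => by rw [MulEquiv.symm_apply_eq, hfix]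
  let α : X → (C ≃* C) := fun φ =>
    { toFun := fun c => ⟨φ.1 c, map_centralizer_pair hD hprim ht (hfix φ) c.2⟩
      invFun := fun c => ⟨φ.1.symm c, map_centralizer_pair hD hprim ht (hfix' φ) c.2⟩
      left_inv := fun c => Subtype.ext (φ.1.symm_apply_apply _)
      right_inv := fun c => Subtype.ext (φ.1.apply_symm_apply _)
      map_mul' := fun c d => Subtype.ext (map_mul φ.1 _ _) }
  have hmapE : ∀ φ : X, E'.map (α φ).toMonoidHom = E' := fun φ => by
    refine le_antisymm ?_ fun c hc => ?_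
    · rintro _ ⟨c, hc, rfl⟩
      exact map_pairTwo hD hprim ht ha hb (hfix φ) hc
    · exact ⟨(α φ).symm c, map_pairTwo hD hprim ht ha hb (hfix' φ) hc, (α φ).apply_symm_apply c⟩
  refine ⟨MonoidHom.mk' (fun φ => QuotientGroup.congr E' E' (α φ) (hmapE φ)) fun φ ψ => ?_, fun φ c h => rfl⟩
  refine MulEquiv.ext fun w => ?_
  induction w using QuotientGroup.induction_on
  rfl

theorem natCard_centralizer_j (ha : a ∈ D) (hb : b ∈ perp D a) :
    Nat.card (Subgroup.centralizer ({MulAut.conj (a * b)} : Set (MulAut G))) =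
      2 * Nat.card (Subgroup.centralizer ({a * b} : Set G)) := by
  set C := Subgroup.centralizer ({a * b} : Set G)
  set X := Subgroup.centralizer ({MulAut.conj (a * b)} : Set (MulAut G))
  obtain ⟨τ, hτa, hτb, hτ⟩ := exists_outer_fixing hD hprim ht ha hb
  have hτX : τ ∈ X := (mem_centralizer_iff_fix hD hprim ht).2 (by rw [map_mul, hτa, hτb])
  let I := (Cfsg.Inn G).subgroupOf X
  have hI : I.index = 2 := by
    refine Subgroup.index_eq_two_iff.2 ⟨⟨τ, hτX⟩, fun φ => ?_⟩
    by_cases h : (φ : MulAut G) ∈ Cfsg.Inn G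
    · exact Or.inr ⟨h, fun k => hτ (((Subgroup.mul_mem_cancel_left _ h)).1 k)⟩
    · exact Or.inl ⟨(Subgroup.mul_mem_iff_of_index_two (index_inn hD hprim ht)).2 (iff_of_false h hτ), h⟩
  have hgX : ∀ g ∈ C, MulAut.conj g ∈ X := fun g hg => (mem_centralizer_iff_fix hD hprim ht).2
    (conj_eq_of_commute (Subgroup.mem_centralizer_singleton_iff.1 hg))
  let f : C → I := fun g => ⟨⟨MulAut.conj (g : G), hgX g g.2⟩, ⟨g, rfl⟩⟩
  have hf : Function.Bijective f := by
    refine ⟨fun g h e => Subtype.ext (autConj_injective hD hprim ht (congrArg (fun i : I => (i : X).1) e)), ?_⟩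
    rintro ⟨⟨φ, hφ⟩, g, hg⟩
    have hgC : g ∈ C := by
      refine Subgroup.mem_centralizer_singleton_iff.2 (commute_of_conj_eq ?_).eq
      have := (mem_centralizer_iff_fix hD hprim ht).1 hφ
      rw [← show MulAut.conj g = φ from hg] at this
      exact this
    exact ⟨⟨g, hgC⟩, Subtype.ext (Subtype.ext hg)⟩
  have h := I.card_mul_index
  rw [hI, ← Nat.card_congr (Equiv.ofBijective f hf)] at h
  rw [← h, mul_comm]

/-- The kernel of the action, with its properties. -/
theorem exists_kernel (ha : a ∈ D) (hb : b ∈ perp D a) :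
    ∃ Q₀ : Subgroup (Subgroup.centralizer ({MulAut.conj (a * b)} : Set (MulAut G))),
      Q₀.Normal ∧ Nat.card Q₀ = 2 ^ 11 ∧
      (∀ φ, φ ∈ Q₀ ↔ ∀ x ∈ Subgroup.centralizer ({a * b} : Set G), φ.1 x * x⁻¹ ∈ pairTwo a b) ∧
      Cfsg.pCore 2 (Subgroup.centralizer ({MulAut.conj (a * b)} : Set (MulAut G))) = Q₀ ∧
      ∃ (_ : Q₀.Normal) (F : Type) (_ : Field F) (_ : Fintype F), Fintype.card F = 4 ∧
        Nonempty (↥(Subgroup.centralizer ({MulAut.conj (a * b)} : Set (MulAut G))) ⧸ Q₀ ≃*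
          MulAut (Cfsg.PSU 4 F 2)) := by
  haveI := subgroupOf_normal hD hprim ht ha hb
  obtain ⟨F, iF, iF', hF, ⟨e⟩⟩ := quotient_aut hD hprim ht ha hb
  obtain ⟨Θ, hΘ⟩ := exists_theta_hom hD hprim ht ha hb
  haveI := isSimple_su4 hF
  haveI : IsSimpleGroup (Cfsg.PSU 4 F 2) := (psuEquiv hF).isSimpleGroup
  have hna : ∃ x y : Cfsg.PSU 4 F 2, x * y ≠ y * x := by
    by_contra hc
    push Not at hc
    have hc4 := center_su4 hF
    rw [show Subgroup.center (Cfsg.SU 4 F 2) = ⊤ from (Subgroup.eq_top_iff' _).2 fun u =>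
      Subgroup.mem_center_iff.2 fun v => (psuEquiv hF).symm.injective (by rw [map_mul, map_mul]; exact hc _ _)] at hc4
    exact absurd hc4 top_ne_bot
  have h2 : ¬ IsPGroup 2 (Cfsg.PSU 4 F 2) := fun h => by
    haveI : Fact (Nat.Prime 2) := ⟨Nat.prime_two⟩
    obtain ⟨n, hn⟩ := IsPGroup.iff_card.1 h
    rw [natCard_psu4 hF] at hn
    have h5 : 5 ∣ 2 ^ n := ⟨5184, by omega⟩
    exact absurd (Nat.prime_five.dvd_of_dvd_pow h5) (by norm_num)
  have hbij : Function.Bijective (MulAut.conj : (Subgroup.centralizer ({a * b} : Set G)) ⧸ ((pairTwo a b).subgroupOf (Subgroup.centralizer ({a * b} : Set G))) →* MulAut ((Subgroup.centralizer ({a * b} : Set G)) ⧸ ((pairTwo a b).subgroupOf (Subgroup.centralizer ({a * b} : Set G))))) :=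
    conj_bijective_of_equiv e (conjAutAut_bijective hna)
  have hsurj : Function.Surjective Θ := fun ψ => by
    obtain ⟨w, rfl⟩ := hbij.2 ψ
    obtain ⟨c, rfl⟩ := QuotientGroup.mk'_surjective ((pairTwo a b).subgroupOf (Subgroup.centralizer ({a * b} : Set G))) w
    have hcX : MulAut.conj (c : G) ∈ (Subgroup.centralizer ({MulAut.conj (a * b)} : Set (MulAut G))) := (mem_centralizer_iff_fix hD hprim ht).2
      (conj_eq_of_commute (Subgroup.mem_centralizer_singleton_iff.1 c.2))
    refine ⟨⟨_, hcX⟩, MulEquiv.ext fun w => ?_⟩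
    induction w using QuotientGroup.induction_on with
    | H d =>
      rw [hΘ _ _ (mul_mem (mul_mem c.2 d.2) (inv_mem c.2))]
      rfl
  have hmem : ∀ φ, φ ∈ Θ.ker ↔ ∀ x ∈ (Subgroup.centralizer ({a * b} : Set G)), φ.1 x * x⁻¹ ∈ pairTwo a b := by
    intro φ
    have hφ := (mem_centralizer_iff_fix hD hprim ht).1 φ.2
    rw [MonoidHom.mem_ker]
    constructor
    · intro h x hx
      have hx' := map_centralizer_pair hD hprim ht hφ hx
      have h1 := hΘ φ ⟨x, hx⟩ hx'
      rw [h, MulAut.one_apply] at h1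
      have h3 : (QuotientGroup.mk (⟨φ.1 x, hx'⟩ * (⟨x, hx⟩ : (Subgroup.centralizer ({a * b} : Set G)))⁻¹) : (Subgroup.centralizer ({a * b} : Set G)) ⧸ ((pairTwo a b).subgroupOf (Subgroup.centralizer ({a * b} : Set G)))) = 1 := by
        rw [QuotientGroup.mk_mul, QuotientGroup.mk_inv, ← h1, mul_inv_cancel]
      have h4 := (QuotientGroup.eq_one_iff (N := (pairTwo a b).subgroupOf (Subgroup.centralizer ({a * b} : Set G))) _).1 h3
      exact h4
    · intro h
      refine MulEquiv.ext fun w => ?_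
      induction w using QuotientGroup.induction_on with
      | H d =>
        have hd' := map_centralizer_pair hD hprim ht hφ d.2
        rw [hΘ φ d hd', MulAut.one_apply]
        have h3 : (QuotientGroup.mk (⟨φ.1 (d : G), hd'⟩ * d⁻¹) : (Subgroup.centralizer ({a * b} : Set G)) ⧸ ((pairTwo a b).subgroupOf (Subgroup.centralizer ({a * b} : Set G)))) = 1 :=
          (QuotientGroup.eq_one_iff _).2 (h _ d.2)
        rw [QuotientGroup.mk_mul, QuotientGroup.mk_inv, mul_inv_eq_one] at h3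
        exact h3
  let iso : (Subgroup.centralizer ({MulAut.conj (a * b)} : Set (MulAut G))) ⧸ Θ.ker ≃* MulAut (Cfsg.PSU 4 F 2) :=
    ((QuotientGroup.quotientKerEquivOfSurjective Θ hsurj).trans (MulEquiv.ofBijective MulAut.conj hbij).symm).trans e
  have hcard : Nat.card Θ.ker = 2 ^ 11 := by
    have h1 := Subgroup.card_eq_card_quotient_mul_card_subgroup Θ.ker
    have h3 := ((pairTwo a b).subgroupOf (Subgroup.centralizer ({a * b} : Set G))).card_mul_index
    have hEC : pairTwo a b ≤ (Subgroup.centralizer ({a * b} : Set G)) := pairTwo_le_centralizer hD hprim ht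
    rw [Subgroup.index, Nat.card_congr e.toEquiv,
      (Nat.card_congr (Subgroup.subgroupOfEquivOfLe hEC).toEquiv).trans (natCard_pairTwo hD hprim ht ha hb)] at h3
    rw [Nat.card_congr iso.toEquiv, show Nat.card (Subgroup.centralizer ({MulAut.conj (a * b)} : Set (MulAut G))) = _ from natCard_centralizer_j hD hprim ht ha hb, ← h3] at h1
    have hpos : 0 < Nat.card (MulAut (Cfsg.PSU 4 F 2)) := Nat.card_pos
    refine Nat.eq_of_mul_eq_mul_left hpos (h1.symm.trans ?_)
    ring
  refine ⟨Θ.ker, inferInstance, hcard, hmem, le_antisymm ?_ ?_, inferInstance, F, iF, iF', hF, ⟨iso⟩⟩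
  · intro φ hφ
    haveI : Fact (Nat.Prime 2) := ⟨Nat.prime_two⟩
    let π : (Subgroup.centralizer ({MulAut.conj (a * b)} : Set (MulAut G))) →* MulAut (Cfsg.PSU 4 F 2) := iso.toMonoidHom.comp (QuotientGroup.mk' Θ.ker)
    have hπ : Function.Surjective π := iso.surjective.comp (QuotientGroup.mk'_surjective _)
    haveI : ((Cfsg.pCore 2 (Subgroup.centralizer ({MulAut.conj (a * b)} : Set (MulAut G)))).map π).Normal := Subgroup.Normal.map inferInstance _ hπ
    have h3 : (Cfsg.pCore 2 (Subgroup.centralizer ({MulAut.conj (a * b)} : Set (MulAut G)))).map π ≤ ⊥ := by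
      rw [← pCore_mulAut_eq_bot hna h2]
      exact CfsgLib.Cores.le_pCore ((CfsgLib.Cores.isPGroup_pCore 2 (Subgroup.centralizer ({MulAut.conj (a * b)} : Set (MulAut G)))).map π)
    have h4 : iso (QuotientGroup.mk φ) = 1 := Subgroup.mem_bot.1 (h3 ⟨φ, hφ, rfl⟩)
    rw [map_eq_one_iff _ iso.injective] at h4
    exact (QuotientGroup.eq_one_iff φ).1 h4
  · exact CfsgLib.Cores.le_pCore (IsPGroup.of_card (n := 11) hcard)

/-- Centralizing `E` puts an automorphism into the kernel. -/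
theorem triv_of_fix_pairTwo (ha : a ∈ D) (hb : b ∈ perp D a) {φ : MulAut G}
    (h : ∀ y ∈ pairTwo a b, φ y = y) {x : G} (hx : x ∈ Subgroup.centralizer ({a * b} : Set G)) :
    φ x * x⁻¹ ∈ pairTwo a b := by
  have hc : ∀ y ∈ pairTwo a b, Commute (φ x * x⁻¹) y := by
    intro y hy
    have hw : x⁻¹ * y * x⁻¹⁻¹ ∈ pairTwo a b := pairTwo_normal hD hprim ht ha hb (inv_mem hx) hy
    have e : φ y = φ x * φ (x⁻¹ * y * x⁻¹⁻¹) * (φ x)⁻¹ := by
      rw [← map_inv, ← map_mul, ← map_mul]
      congr 1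
      group
    rw [h y hy, h _ hw] at e
    refine mul_inv_eq_iff_eq_mul.1 ?_
    calc φ x * x⁻¹ * y * (φ x * x⁻¹)⁻¹ = φ x * (x⁻¹ * y * x⁻¹⁻¹) * (φ x)⁻¹ := by group
      _ = y := e.symm
  obtain ⟨haE, hbE⟩ := pair_mem_pairTwo hD hprim ht ha hb
  rcases centralizer_pairTwo hD hprim ht ha hb hc with e | e | e | e <;> rw [e]
  exacts [one_mem _, haE, hbE, mul_mem hbE haE]

/-- The inner members of the kernel. -/
theorem conj_triv (ha : a ∈ D) (hb : b ∈ perp D a) {e : G} (he : e ∈ pairTwo a b) {x : G}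
    (hx : x ∈ Subgroup.centralizer ({a * b} : Set G)) : MulAut.conj e x * x⁻¹ ∈ pairTwo a b := by
  rw [MulAut.conj_apply, mul_assoc e x, mul_assoc e (x * e⁻¹)]
  exact mul_mem he (pairTwo_normal hD hprim ht ha hb hx (inv_mem he))

/-- The structure of the kernel. -/
theorem kernel_structure (ha : a ∈ D) (hb : b ∈ perp D a)
    {Q : Subgroup (MulAut G)} (hcard : Nat.card Q = 2 ^ 11)
    (hQ : ∀ φ, φ ∈ Q ↔ φ ∈ Subgroup.centralizer ({MulAut.conj (a * b)} : Set (MulAut G)) ∧
      ∀ x ∈ Subgroup.centralizer ({a * b} : Set G), φ x * x⁻¹ ∈ pairTwo a b) :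
    Cfsg.IsExtraspecial 2 Q ∧
      (Subgroup.center Q).map Q.subtype = Subgroup.zpowers (MulAut.conj (a * b)) ∧
      Subgroup.centralizer (Q : Set (MulAut G)) = (Subgroup.center Q).map Q.subtype := by
  obtain ⟨h1, h2, h3, h4, h5, h6, h7⟩ := pair_ne hD hprim ht ha hb
  obtain ⟨haE, hbE⟩ := pair_mem_pairTwo hD hprim ht ha hb
  have hfixX : ∀ {φ}, φ ∈ Q → φ (a * b) = a * b := fun hφ =>
    (mem_centralizer_iff_fix hD hprim ht).1 ((hQ _).1 hφ).1
  have hconjQ : ∀ e ∈ pairTwo a b, MulAut.conj e ∈ Q := fun e he => (hQ _).2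
    ⟨(mem_centralizer_iff_fix hD hprim ht).2 (conj_eq_of_commute
      (Subgroup.mem_centralizer_singleton_iff.1 (pairTwo_le_centralizer hD hprim ht he))),
      fun x hx => conj_triv hD hprim ht ha hb he hx⟩
  have hinner : ∀ {φ}, φ ∈ Q → φ ∈ Cfsg.Inn G → ∃ e ∈ pairTwo a b, φ = MulAut.conj e := by
    rintro _ hφ ⟨g, rfl⟩
    have hgC : g ∈ Subgroup.centralizer ({a * b} : Set G) :=
      Subgroup.mem_centralizer_singleton_iff.2 (commute_of_conj_eq (hfixX hφ)).eq
    exact ⟨g, mem_pairTwo_of_trivial hD hprim ht ha hb hgC fun k hk => by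
      have := ((hQ _).1 hφ).2 k (pairCent_le hD hprim ht hk)
      rwa [MulAut.conj_apply] at this, rfl⟩
  have htriv : ∀ {φ}, φ ∈ Q → Triv a b φ := fun {φ} hφ => by
    refine ⟨move_of_fix hD hprim ht ha hb (hfixX hφ), ((hQ φ).1 hφ).2, ?_⟩
    obtain ⟨g, hg⟩ := (Subgroup.mul_mem_iff_of_index_two (index_inn hD hprim ht)
      (a := φ) (b := φ)).2 Iff.rfl
    exact ⟨g, hg.symm⟩
  have hswap : ∀ {φ}, φ ∈ Q → φ ∉ Cfsg.Inn G → φ a = b ∧ φ b = a := by
    intro φ hφ hout
    rcases (htriv hφ).move with ⟨hφa, hφb⟩ | h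
    swap
    · exact h
    exfalso
    obtain ⟨e, he, hfe⟩ := (htriv hφ).exists_kill hD hprim ht ha hb hφa hφb
    have hmem : (MulAut.conj e)⁻¹ * φ ∈ Q := mul_mem (inv_mem (hconjQ e he)) hφ
    have hfix : ∀ y ∈ pairTwo a b, ((MulAut.conj e)⁻¹ * φ) y = y := fun y hy => by
      rw [MulAut.mul_apply, hfe y hy, ← MulAut.conj_apply]
      exact (MulAut.conj e).symm_apply_apply y
    refine not_fix_common hD hprim ht ha hb (fun h => hout ?_) (hfix a haE) (hfix b hbE)
      ((htriv hmem).fix_pairCent hD hprim ht ha hb hfix)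
    have h' := mul_mem (show MulAut.conj e ∈ Cfsg.Inn G from ⟨e, rfl⟩) h
    rwa [mul_inv_cancel_left] at h'
  obtain ⟨q, hq, hqout⟩ : ∃ q ∈ Q, q ∉ Cfsg.Inn G := by
    by_contra hc
    push Not at hc
    choose f hf hfe using fun φ : Q => hinner φ.2 (hc φ.1 φ.2)
    have hle := Nat.card_le_card_of_injective (fun φ : Q => (⟨f φ, hf φ⟩ : pairTwo a b)) fun φ ψ h =>
      Subtype.ext ((hfe φ).trans ((congrArg MulAut.conj (congrArg Subtype.val h)).trans (hfe ψ).symm))
    rw [hcard, natCard_pairTwo hD hprim ht ha hb] at hle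
    norm_num at hle
  obtain ⟨hqa, hqb⟩ := hswap hq hqout
  have hjQ : MulAut.conj (a * b) ∈ Q := hconjQ _ (mul_mem haE hbE)
  have hjc : ∀ φ ∈ Q, φ * MulAut.conj (a * b) = MulAut.conj (a * b) * φ := fun φ hφ =>
    Subgroup.mem_centralizer_singleton_iff.1 ((hQ φ).1 hφ).1
  -- an automorphism centralizing `Q`
  have hcent : ∀ φ : MulAut G, (∀ ψ ∈ Q, φ * ψ = ψ * φ) → φ = 1 ∨ φ = MulAut.conj (a * b) := by
    intro φ hφ
    have hfix : ∀ y ∈ pairTwo a b, φ y = y := fun y hy => by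
      refine autConj_injective hD hprim ht ?_
      rw [← autConj_conj, hφ _ (hconjQ y hy), mul_inv_cancel_right]
    have hφQ : φ ∈ Q := (hQ φ).2 ⟨(mem_centralizer_iff_fix hD hprim ht).2 (hfix _ (mul_mem haE hbE)),
      fun x hx => triv_of_fix_pairTwo hD hprim ht ha hb hfix hx⟩
    have hin : φ ∈ Cfsg.Inn G := by
      by_contra h
      exact h3 ((hswap hφQ h).1.symm.trans (hfix a haE))
    obtain ⟨g, hg, rfl⟩ := hinner hφQ hin
    have hc : ∀ y ∈ pairTwo a b, Commute g y := fun y hy => commute_of_conj_eq (hfix y hy)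
    have hqg : q g = g := by
      refine autConj_injective hD hprim ht ?_
      rw [← autConj_conj, ← hφ q hq, mul_inv_cancel_right]
    rcases centralizer_pairTwo hD hprim ht ha hb hc with h | h | h | h
    · left; rw [h, map_one]
    · rw [h, hqa] at hqg; exact absurd hqg h3
    · rw [h, hqb] at hqg; exact absurd hqg.symm h3
    · right; rw [h, h7]
  have hsq : ∀ φ ∈ Q, φ * φ = 1 ∨ φ * φ = MulAut.conj (a * b) := by
    intro φ hφ
    by_cases hin : φ ∈ Cfsg.Inn G
    · obtain ⟨e, he, rfl⟩ := hinner hφ hin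
      rcases (pairTwo_sq_comm hD hprim ht ha hb he he).1 with h | h
      · left; rw [← map_mul, h, map_one]
      · right; rw [← map_mul, h, h7]
    · obtain ⟨e1, e2⟩ := hswap hφ hin
      rw [h7]
      exact (htriv hφ).sq_cases hD hprim ht ha hb e1 e2
  have hj2 : MulAut.conj (a * b) * MulAut.conj (a * b) = 1 := by
    rw [← map_mul, show a * b * (a * b) = a * b * (b * a) by rw [← h7],
      show a * b * (b * a) = a * (b * b) * a by group, sq_eq_one hD.1 hb.1, mul_one, sq_eq_one hD.1 ha, map_one]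
  have hj1 : MulAut.conj (a * b) ≠ 1 := fun h => h4 (h7 ▸ center_trivial hD hprim ht h)
  have hord : orderOf (MulAut.conj (a * b)) = 2 := orderOf_eq_prime (by rw [pow_two, hj2]) hj1
  have hZ : (Subgroup.center Q).map Q.subtype = Subgroup.zpowers (MulAut.conj (a * b)) := by
    refine le_antisymm ?_ (Subgroup.zpowers_le.2 ⟨⟨_, hjQ⟩, Subgroup.mem_center_iff.2 fun ψ =>
      Subtype.ext (hjc ψ ψ.2), rfl⟩)
    rintro _ ⟨φ, hφ, rfl⟩
    rcases hcent φ (fun ψ hψ => (congrArg Subtype.val (Subgroup.mem_center_iff.1 hφ ⟨ψ, hψ⟩)).symm) with h | h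
    · show (φ : MulAut G) ∈ _
      rw [h]; exact one_mem _
    · show (φ : MulAut G) ∈ _
      rw [h]; exact Subgroup.mem_zpowers _
  have hZcard : Nat.card (Subgroup.center Q) = 2 := by
    rw [← Subgroup.card_map_of_injective (f := Q.subtype) Q.subtype_injective, hZ, Nat.card_zpowers, hord]
  refine ⟨CfsgLib.Minimal.ThreeBlock.isExtraspecial_of_squares (j := 11) hcard (fun φ => ?_) hZcard ?_, hZ, ?_⟩
  · rcases hsq φ φ.2 with h | h
    · rw [show φ * φ = 1 from Subtype.ext h]; exact one_mem _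
    · rw [show φ * φ = ⟨_, hjQ⟩ from Subtype.ext h]
      exact Subgroup.mem_center_iff.2 fun ψ => Subtype.ext (hjc ψ ψ.2)
  · intro htop
    rw [htop, Subgroup.card_top, hcard] at hZcard
    norm_num at hZcard
  · refine le_antisymm (fun φ hφ => ?_) ?_
    · rw [hZ]
      rcases hcent φ (fun ψ hψ => ((Subgroup.mem_centralizer_iff.1 hφ) ψ hψ).symm) with h | h <;> rw [h]
      exacts [one_mem _, Subgroup.mem_zpowers _]
    · rintro _ ⟨φ, hφ, rfl⟩
      exact Subgroup.mem_centralizer_iff.2 fun ψ hψ => congrArg Subtype.val (Subgroup.mem_center_iff.1 hφ ⟨ψ, hψ⟩)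

theorem fitting_eq (ha : a ∈ D) (hb : b ∈ perp D a)
    {Q₀ : Subgroup (Subgroup.centralizer ({MulAut.conj (a * b)} : Set (MulAut G)))}
    (hmem : ∀ φ, φ ∈ Q₀ ↔ ∀ x ∈ Subgroup.centralizer ({a * b} : Set G), φ.1 x * x⁻¹ ∈ pairTwo a b)
    (hcore : Cfsg.pCore 2 (Subgroup.centralizer ({MulAut.conj (a * b)} : Set (MulAut G))) = Q₀) :
    Cfsg.generalizedFittingSubgroup ↥(Subgroup.centralizer ({MulAut.conj (a * b)} : Set (MulAut G))) = Q₀ := by
  haveI : Fact (Nat.Prime 2) := ⟨Nat.prime_two⟩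
  rw [CfsgLib.StronglyPEmbedded.generalizedFittingSubgroup_eq_pCore (p := 2) ?_, hcore]
  rw [hcore]
  intro φ hφ
  refine (hmem φ).2 fun x hx => triv_of_fix_pairTwo hD hprim ht ha hb (fun y hy => ?_) hx
  have hyX : MulAut.conj y ∈ Subgroup.centralizer ({MulAut.conj (a * b)} : Set (MulAut G)) :=
    (mem_centralizer_iff_fix hD hprim ht).2 (conj_eq_of_commute
      (Subgroup.mem_centralizer_singleton_iff.1 (pairTwo_le_centralizer hD hprim ht hy)))
  have h1 := Subgroup.mem_centralizer_iff.1 hφ ⟨_, hyX⟩ ((hmem _).2 fun z hz => conj_triv hD hprim ht ha hb hy hz)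
  refine autConj_injective hD hprim ht ?_
  rw [← autConj_conj, ← show MulAut.conj y * φ.1 = φ.1 * MulAut.conj y from congrArg Subtype.val h1,
    mul_inv_cancel_right]

end CfsgLib.Fischer.M22Pair
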